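import Cfsg.Agent.Lib.Helper12.G24.ChkDefs

/-! checks by evaluation, part 0 (generated, helper12) -/

set_option autoImplicit false
set_option maxRecDepth 100000
set_option Elab.async false

namespace Cfsg.Agent.Lib.Helper12.G24

open Cfsg.Agent.Lib.Helper12.TC Cfsg.Agent.Lib.Helper12.TC.Suzx1782

theorem chk0 : compatK TT (wordOf 0) (EN 0) = true := by decide +kernel

theorem chk1 : compatK TT (wordOf 1) (EN 1) = true := by decide +kernel

theorem chk2 : compatK TT (wordOf 2) (EN 2) = true := by decide +kernel

theorem chk3 : compatK TT (wordOf 3) (EN 3) = true := by decide +kernel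

theorem chk4 : compatK TT (wordOf 4) (EN 4) = true := by decide +kernel

theorem chk5 : compatK TT (wordOf 5) (EN 5) = true := by decide +kernel

theorem chk6 : compatK TT (wordOf 6) (EN 6) = true := by decide +kernel

theorem chk7 : compatK TT (wordOf 7) (EN 7) = true := by decide +kernel

end Cfsg.Agent.Lib.Helper12.G24
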