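import Cfsg.Agent.Lib.Helper12.G24.ChkDefs

/-! checks by evaluation, part 1 (generated, helper12) -/

set_option autoImplicit false
set_option maxRecDepth 100000
set_option Elab.async false

namespace Cfsg.Agent.Lib.Helper12.G24

open Cfsg.Agent.Lib.Helper12.TC Cfsg.Agent.Lib.Helper12.TC.Suzx1782

theorem chk8 : compatK TT (wordOf 8) (EN 8) = true := by decide +kernel

theorem chk9 : compatK TT (wordOf 9) (EN 9) = true := by decide +kernel

theorem chk10 : compatK TT (wordOf 10) (EN 10) = true := by decide +kernel

theorem chk11 : compatK TT (wordOf 11) (EN 11) = true := by decide +kernel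

theorem chk12 : compatK TT (wordOf 12) (EN 12) = true := by decide +kernel

theorem chk13 : compatK TT (wordOf 13) (EN 13) = true := by decide +kernel

theorem chk14 : compatK TT (wordOf 14) (EN 14) = true := by decide +kernel

theorem chk15 : compatK TT (wordOf 15) (EN 15) = true := by decide +kernel

end Cfsg.Agent.Lib.Helper12.G24
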