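import Cfsg.Agent.Lib.Helper12.G24.ChkDefs

/-! checks by evaluation, part 2 (generated, helper12) -/

set_option autoImplicit false
set_option maxRecDepth 100000
set_option Elab.async false

namespace Cfsg.Agent.Lib.Helper12.G24

open Cfsg.Agent.Lib.Helper12.TC Cfsg.Agent.Lib.Helper12.TC.Suzx1782

theorem chk16 : compatK TT (wordOf 16) (EN 16) = true := by decide +kernel

theorem chk17 : compatK TT (wordOf 17) (EN 17) = true := by decide +kernel

theorem chk18 : compatK TT (wordOf 18) (EN 18) = true := by decide +kernel

theorem chk19 : compatK TT (wordOf 19) (EN 19) = true := by decide +kernel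

theorem chk20 : compatK TT (wordOf 20) (EN 20) = true := by decide +kernel

theorem chk21 : compatK TT (wordOf 21) (EN 21) = true := by decide +kernel

theorem chk22 : compatK TT (wordOf 22) (EN 22) = true := by decide +kernel

theorem chk23 : compatK TT (wordOf 23) (EN 23) = true := by decide +kernel

end Cfsg.Agent.Lib.Helper12.G24
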