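import Cfsg.Agent.Lib.Helper12.G24.ChkDefs

/-! checks by evaluation, part 3 (generated, helper12) -/

set_option autoImplicit false
set_option maxRecDepth 100000
set_option Elab.async false

namespace Cfsg.Agent.Lib.Helper12.G24

open Cfsg.Agent.Lib.Helper12.TC Cfsg.Agent.Lib.Helper12.TC.Suzx1782

theorem chk24 : compatK TT (wordOf 24) (EN 24) = true := by decide +kernel

theorem chk25 : compatK TT (wordOf 25) (EN 25) = true := by decide +kernel

theorem chk26 : compatK TT (wordOf 26) (EN 26) = true := by decide +kernel

theorem chk27 : compatK TT (wordOf 27) (EN 27) = true := by decide +kernel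

theorem chk28 : compatK TT (wordOf 28) (EN 28) = true := by decide +kernel

theorem chk29 : compatK TT (wordOf 29) (EN 29) = true := by decide +kernel

theorem chk30 : compatK TT (wordOf 30) (EN 30) = true := by decide +kernel

theorem chk31 : compatK TT (wordOf 31) (EN 31) = true := by decide +kernel

end Cfsg.Agent.Lib.Helper12.G24
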