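import Cfsg.Agent.Lib.Helper12.G24.ChkDefs

/-! checks by evaluation, part 4 (generated, helper12) -/

set_option autoImplicit false
set_option maxRecDepth 100000
set_option Elab.async false

namespace Cfsg.Agent.Lib.Helper12.G24

open Cfsg.Agent.Lib.Helper12.TC Cfsg.Agent.Lib.Helper12.TC.Suzx1782

theorem chk32 : compatK TT (wordOf 32) (EN 32) = true := by decide +kernel

theorem chk33 : compatK TT (wordOf 33) (EN 33) = true := by decide +kernel

theorem chk34 : compatK TT (wordOf 34) (EN 34) = true := by decide +kernel

theorem chk35 : compatK TT (wordOf 35) (EN 35) = true := by decide +kernel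

theorem chk36 : compatK TT (wordOf 36) (EN 36) = true := by decide +kernel

theorem chk37 : compatK TT (wordOf 37) (EN 37) = true := by decide +kernel

theorem chk38 : compatK TT (wordOf 38) (EN 38) = true := by decide +kernel

theorem chk39 : compatK TT (wordOf 39) (EN 39) = true := by decide +kernel

end Cfsg.Agent.Lib.Helper12.G24
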