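import Cfsg.Agent.Lib.Helper12.G24.ChkDefs

/-! checks by evaluation, part 5 (generated, helper12) -/

set_option autoImplicit false
set_option maxRecDepth 100000
set_option Elab.async false

namespace Cfsg.Agent.Lib.Helper12.G24

open Cfsg.Agent.Lib.Helper12.TC Cfsg.Agent.Lib.Helper12.TC.Suzx1782

theorem chk40 : compatK TT (wordOf 40) (EN 40) = true := by decide +kernel

theorem chk41 : compatK TT (wordOf 41) (EN 41) = true := by decide +kernel

theorem chk42 : compatK TT (wordOf 42) (EN 42) = true := by decide +kernel

theorem chk43 : compatK TT (wordOf 43) (EN 43) = true := by decide +kernel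

theorem chk44 : compatK TT (wordOf 44) (EN 44) = true := by decide +kernel

theorem chk45 : compatK TT (wordOf 45) (EN 45) = true := by decide +kernel

theorem chk46 : compatK TT (wordOf 46) (EN 46) = true := by decide +kernel

theorem chk47 : compatK TT (wordOf 47) (EN 47) = true := by decide +kernel

end Cfsg.Agent.Lib.Helper12.G24
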