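import Cfsg.Agent.Lib.Helper12.G24.Chk0
import Cfsg.Agent.Lib.Helper12.G24.Chk1
import Cfsg.Agent.Lib.Helper12.G24.Chk2
import Cfsg.Agent.Lib.Helper12.G24.Chk3
import Cfsg.Agent.Lib.Helper12.G24.Chk4
import Cfsg.Agent.Lib.Helper12.G24.Chk5

/-! all checks (generated, helper12) -/

set_option autoImplicit false

namespace Cfsg.Agent.Lib.Helper12.G24

open Cfsg.Agent.Lib.Helper12.TC Cfsg.Agent.Lib.Helper12.TC.Suzx1782

theorem chk_all (k : ℕ) (hk : k < 48) : compatK TT (wordOf k) (EN k) = true := by
  interval_cases k
  · exact chk0
  · exact chk1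
  · exact chk2
  · exact chk3
  · exact chk4
  · exact chk5
  · exact chk6
  · exact chk7
  · exact chk8
  · exact chk9
  · exact chk10
  · exact chk11
  · exact chk12
  · exact chk13
  · exact chk14
  · exact chk15
  · exact chk16
  · exact chk17
  · exact chk18
  · exact chk19
  · exact chk20
  · exact chk21
  · exact chk22
  · exact chk23
  · exact chk24
  · exact chk25
  · exact chk26
  · exact chk27
  · exact chk28
  · exact chk29
  · exact chk30
  · exact chk31
  · exact chk32
  · exact chk33
  · exact chk34
  · exact chk35
  · exact chk36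
  · exact chk37
  · exact chk38
  · exact chk39
  · exact chk40
  · exact chk41
  · exact chk42
  · exact chk43
  · exact chk44
  · exact chk45
  · exact chk46
  · exact chk47

theorem wordOf_lt (k : ℕ) : ∀ s ∈ wordOf k, s < 6 := by
  by_cases hk : k < 48
  · have h : ∀ k < 48, ∀ s ∈ wordOf k, s < 6 := by decide
    exact h k hk
  · have : wordOf k = [] := by
      unfold wordOf
      split <;> first | rfl | omega
    rw [this]
    intro s hs
    exact absurd hs List.not_mem_nil

end Cfsg.Agent.Lib.Helper12.G24
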