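import Cfsg.Agent.Lib.Helper12.G24.Vec
import Cfsg.Agent.Lib.Helper12.G24.Data
import Cfsg.Agent.Lib.Helper12.TC.Suzx1782.Tab
import Cfsg.Agent.Lib.Helper12.TC.Fn.Index

/-!
Checks by evaluation, definitions: words in the generators of the Suzuki group act on an orbit of 1365
points as the root elements of `G2(4)` act on 1365 points of the projective space of the Lie algebra
(helper12).
-/

set_option autoImplicit false
set_option maxRecDepth 100000

namespace Cfsg.Agent.Lib.Helper12.G24

open Cfsg.Agent.Lib.Helper12.TC Cfsg.Agent.Lib.Lead.F4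

/-- the vector of the `i`-th point of the orbit -/
def ptAt (i : ℕ) : ℕ := Nat.land (Nat.shiftRight ptN (Nat.mul 28 i)) 268435455

/-- the coordinate `k` of the vector of `m` is not zero -/
def nzK (m k : ℕ) : Bool := !(Nat.beq (Nat.land (Nat.shiftRight m (Nat.mul 2 k)) 3) 0)

/-- the position of the first coordinate other than zero -/
def leadPos (m : ℕ) : ℕ :=
  cond (nzK m 0) 0 (cond (nzK m 1) 1 (cond (nzK m 2) 2 (cond (nzK m 3) 3 (cond (nzK m 4) 4
    (cond (nzK m 5) 5 (cond (nzK m 6) 6 (cond (nzK m 7) 7 (cond (nzK m 8) 8 (cond (nzK m 9) 9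
      (cond (nzK m 10) 10 (cond (nzK m 11) 11 (cond (nzK m 12) 12 13))))))))))))

/-- the matrix of the table `E` maps the vector of `n` to the multiple by `cn` of the vector of `m` -/
def rowsEq (E n m cn : ℕ) : Bool :=
  all14 (fun row => Nat.beq (rowDotN E n row) (mulN cn (decN m row)))

/-- the check of one point: the word `w` maps the point `1 + i` to a point `1 + j` of the orbit, and
the matrix of the table `E` maps the vector of the `i`-th point to a multiple of the vector of the `j`-th -/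
def compatOne (TT : ℕ → ℕ → ℕ) (w : List ℕ) (E i : ℕ) : Bool :=
  forceN (ptAt i) fun n => forceN (Fn.applyW TT w (Nat.succ i)) fun q =>
    Nat.ble 1 q && (Nat.blt q 1366 && forceN (ptAt (Nat.pred q)) fun m =>
      forceN (leadPos m) fun p => forceN (rowDotN E n p) fun cn =>
        (!(Nat.beq cn 0) && rowsEq E n m cn))

/-- the check of all points -/
def compatK (TT : ℕ → ℕ → ℕ) (w : List ℕ) (E : ℕ) : Bool :=
  forceN E fun E' => allBelowK 1365 (compatOne TT w E')

theorem kOfN_ne_zero {cn : ℕ} (h : Nat.beq cn 0 = false) : kOfN cn ≠ 0 := by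
  rcases cn with _ | _ | _ | cn
  · exact absurd h (by decide)
  · decide
  · decide
  · show F4c.v ≠ 0
    decide

theorem compatK_spec {TT : ℕ → ℕ → ℕ} {w : List ℕ} {E : ℕ} (h : compatK TT w E = true)
    (i : ℕ) (hi : i < 1365) :
    1 ≤ Fn.applyW TT w (i + 1) ∧ Fn.applyW TT w (i + 1) < 1366 ∧
      ∃ c : K, c ≠ 0 ∧ ∀ row < 14,
        rowDot E (ptAt i) row = c * dec (ptAt (Fn.applyW TT w (i + 1) - 1)) row := by
  unfold compatK at h
  rw [forceN_eq] at h
  have h1 := (allBelowK_iff 1365 _).mp h i hi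
  unfold compatOne at h1
  rw [forceN_eq, forceN_eq] at h1
  simp only [Bool.and_eq_true] at h1
  obtain ⟨h2, h3, h4⟩ := h1
  rw [forceN_eq, forceN_eq, forceN_eq] at h4
  simp only [Bool.and_eq_true, Bool.not_eq_true'] at h4
  obtain ⟨h5, h6⟩ := h4
  refine ⟨Nat.le_of_ble_eq_true h2, Nat.le_of_ble_eq_true h3, _, kOfN_ne_zero h5, ?_⟩
  intro row hrow
  have h7 := Nat.eq_of_beq_eq_true (all14_spec h6 hrow)
  have h8 := congrArg kOfN h7
  rw [kOfN_rowDotN, kOfN_mulN (rowDotN_lt _ _ _) (decN_lt _ _)] at h8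
  exact h8

end Cfsg.Agent.Lib.Helper12.G24
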