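import Cfsg.Agent.Lib.Helper12.G24.XTab
import Cfsg.Agent.Lib.Helper12.G24.ChkAll
import Cfsg.Agent.Lib.Helper12.TC.Suzx1782.Main
import Cfsg.Agent.Lib.Helper12.TC.Fn.Lower

/-!
The subgroup `G2(4)` of the Suzuki group: the relation between its elements and the matrices of the
Chevalley group given by the action on an orbit of 1365 points and on 1365 points of the projective space
of the Lie algebra (helper12).
-/

set_option autoImplicit false

namespace Cfsg.Agent.Lib.Helper12.G24

open Matrix Cfsg.Spor Cfsg.Lie Cfsg.Agent.Lib.Helper12.TC Cfsg.Agent.Lib.Helper12.TC.Suzx1782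
  Cfsg.Agent.Lib.Helper12.TC.SuzPres Cfsg.Agent.Lib.Lead.F4

/-- the relators -/
abbrev R : Set (FreeGroup Suz.Gen) := coxRelators Suz.edges ∪ {r | r ∈ Suz.extra}

/-- the generators -/
noncomputable def v (i : ℕ) : PresentedGroup R := PresentedGroup.mk R (FreeGroup.of (gen i))

/-- the subgroup -/
abbrev Hs : Subgroup (PresentedGroup R) := (Subgroup.closure S).map (PresentedGroup.mk R)

theorem hH : Hs = Subgroup.closure {γ | ∃ w ∈ sw, γ = wprod v w} := by
  show (Subgroup.closure S).map (PresentedGroup.mk R) = _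
  rw [MonoidHom.map_closure, hS]
  rfl

/-- the permutation representation -/
noncomputable def rho : PresentedGroup R →* Equiv.Perm (Fin cN) := mainRho.choose

theorem rho_v : ∀ x < 7, ∀ i : Fin cN, ((rho (v x) i : Fin cN) : ℕ) = TT x i := mainRho.choose_spec.1

theorem rho_index : Hs.index = cN := mainRho.choose_spec.2.1

/-- the points of the orbit -/
def pt (i : ℕ) : Fin cN := Fn.ptOf hN0 (1 + i)

theorem pt_val {i : ℕ} (hi : i < 1365) : (pt i).val = 1 + i :=
  Fn.ptOf_val hN0 (by show 1 + i < 1782; omega)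

theorem pt_inj {i j : ℕ} (hi : i < 1365) (hj : j < 1365) (h : pt i = pt j) : i = j := by
  have := congrArg Fin.val h
  rw [pt_val hi, pt_val hj] at this
  omega

/-- the Chevalley group -/
abbrev Gc : Subgroup (GL Idx K) := chevG2.group K

/-- an element of the group and a matrix act in the same way -/
def Compat (g : PresentedGroup R) (M : GL Idx K) : Prop :=
  ∀ i < 1365, ∃ j < 1365, rho g (pt i) = pt j ∧
    ∃ c : K, c ≠ 0 ∧ (M : Matrix Idx Idx K) *ᵥ vecN (ptAt i) = c • vecN (ptAt j)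

theorem compat_one : Compat 1 1 := by
  intro i hi
  refine ⟨i, hi, ?_, 1, one_ne_zero, ?_⟩
  · rw [map_one]; rfl
  · rw [Units.val_one, Matrix.one_mulVec, one_smul]

theorem compat_mul (g g' : PresentedGroup R) (M M' : GL Idx K) (h : Compat g M) (h' : Compat g' M') :
    Compat (g * g') (M * M') := by
  intro i hi
  obtain ⟨j', hj', e1, c', hc', e2⟩ := h' i hi
  obtain ⟨j, hj, e3, c, hc, e4⟩ := h j' hj'
  refine ⟨j, hj, ?_, c' * c, mul_ne_zero hc' hc, ?_⟩
  · rw [map_mul, Equiv.Perm.mul_apply, e1, e3]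
  · rw [Units.val_mul, ← Matrix.mulVec_mulVec, e2, Matrix.mulVec_smul, e4, smul_smul]

theorem compat_inv (g : PresentedGroup R) (M : GL Idx K) (h : Compat g M) : Compat g⁻¹ M⁻¹ := by
  classical
  choose f hf using fun (i : Fin 1365) => h i.val i.isLt
  let F : Fin 1365 → Fin 1365 := fun i => ⟨f i, (hf i).1⟩
  have hinj : Function.Injective F := by
    intro i i' hii
    have h1 : f i = f i' := congrArg Fin.val hii
    have h2 : rho g (pt i.val) = rho g (pt i'.val) := by
      rw [(hf i).2.1, (hf i').2.1, h1]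
    exact Fin.ext (pt_inj i.isLt i'.isLt ((rho g).injective h2))
  have hsurj : Function.Surjective F := Finite.injective_iff_surjective.mp hinj
  intro i hi
  obtain ⟨i', hi'⟩ := hsurj ⟨i, hi⟩
  have h1 : f i' = i := congrArg Fin.val hi'
  obtain ⟨_, e1, c, hc, e2⟩ := hf i'
  rw [h1] at e1 e2
  refine ⟨i'.val, i'.isLt, ?_, c⁻¹, inv_ne_zero hc, ?_⟩
  · rw [map_inv, Equiv.Perm.inv_eq_iff_eq, e1]
  · have h3 : vecN (ptAt i) = c⁻¹ • ((M : Matrix Idx Idx K) *ᵥ vecN (ptAt i'.val)) := by
      rw [e2, smul_smul, inv_mul_cancel₀ hc, one_smul]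
    rw [h3, Matrix.mulVec_smul, Matrix.mulVec_mulVec, ← Units.val_mul, inv_mul_cancel, Units.val_one,
      Matrix.one_mulVec]

theorem wordOf_lt7 (k : ℕ) : ∀ s ∈ wordOf k, s < 7 := fun s hs => lt_trans (wordOf_lt k s hs) (by decide)

/-- from the check by evaluation to the relation -/
theorem compat_of_check (r : Fin 12) (t : K) (g : GL Idx K)
    (hg : (g : Matrix Idx Idx K) = chevG2.xMat K r t) :
    Compat (wprod v (wordOf (4 * r.val + nOfK t))) g := by
  have hk : 4 * r.val + nOfK t < 48 := by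
    have h1 := r.isLt
    have h2 : nOfK t < 4 := by cases t <;> decide
    omega
  intro i hi
  obtain ⟨h1, h2, c, hc, h3⟩ := compatK_spec (chk_all _ hk) i hi
  have hj : Fn.applyW TT (wordOf (4 * r.val + nOfK t)) (i + 1) - 1 < 1365 := by omega
  refine ⟨_, hj, ?_, c, hc, ?_⟩
  · apply Fin.ext
    rw [Fn.rho_word v rho rho_v _ (wordOf_lt7 _), pt_val hi, pt_val hj, Nat.add_comm 1 i]
    omega
  · funext x
    have h4 := xMat_mulVec r t (ptAt i) (pos_lt x)
    rw [idxOf_pos] at h4
    rw [hg, h4, h3 _ (pos_lt x)]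
    rfl

theorem v_mem {s : ℕ} (hs : s < 6) : v s ∈ Hs := by
  rw [hH]
  apply Subgroup.subset_closure
  refine ⟨[s], ?_, ?_⟩
  · interval_cases s <;> decide
  · rw [wprod_cons, wprod_nil, mul_one]

theorem wprod_mem (w : List ℕ) (hw : ∀ s ∈ w, s < 6) : wprod v w ∈ Hs := by
  induction w with
  | nil => rw [wprod_nil]; exact Subgroup.one_mem _
  | cons s w ih =>
    rw [wprod_cons]
    exact Subgroup.mul_mem _ (v_mem (hw s List.mem_cons_self))
      (ih (fun t ht => hw t (List.mem_cons_of_mem _ ht)))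

/-- every matrix of the Chevalley group corresponds to an element of the subgroup -/
theorem exists_compat : ∀ M ∈ Gc, ∃ h ∈ Hs, Compat h M := by
  intro M hM
  refine Subgroup.closure_induction (p := fun M _ => ∃ h ∈ Hs, Compat h M) ?_ ?_ ?_ ?_ hM
  · rintro g ⟨r, t, hg⟩
    exact ⟨_, wprod_mem _ (wordOf_lt _), compat_of_check r t g hg⟩
  · exact ⟨1, Subgroup.one_mem _, compat_one⟩
  · rintro x y _ _ ⟨h, hh, hc⟩ ⟨h', hh', hc'⟩
    exact ⟨h * h', Subgroup.mul_mem _ hh hh', compat_mul _ _ _ _ hc hc'⟩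
  · rintro x _ ⟨h, hh, hc⟩
    exact ⟨h⁻¹, Subgroup.inv_mem _ hh, compat_inv _ _ hc⟩

end Cfsg.Agent.Lib.Helper12.G24
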