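import Cfsg.Agent.Lib.Helper12.G24.Compat
import Cfsg.Agent.Lib.Helper12.U62.Gen
import Cfsg.Agent.Lib.Helper12.TC.SuzP3x2160.Link
import Cfsg.Agent.Lib.Helper12.TC.SuzP2x280.Link
import Cfsg.Agent.Lib.Helper12.TC.SuzP1x416.Link
import Cfsg.Agent.Lib.helper8.ChevPerf
import Cfsg.Agent.Lib.helper8.ChevBaseG2
import Cfsg.Agent.S1055
import Cfsg.Agent.S1059

/-!
The subgroup of the Suzuki group generated by `a`, ..., `f` is isomorphic to the Chevalley group of type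
`G2` over the field with four elements (helper12).
-/

set_option autoImplicit false

namespace Cfsg.Agent.Lib.Helper12.G24

open Matrix Cfsg.Spor Cfsg.Lie Cfsg.Agent.Lib.Helper12.TC Cfsg.Agent.Lib.Helper12.TC.Suzx1782
  Cfsg.Agent.Lib.Helper12.TC.SuzPres Cfsg.Agent.Lib.Lead.F4 Cfsg.Agent.Lib.Helper12.U62

theorem S_eq : S = Cfsg.Agent.Lib.Helper12.Ord.SuzP1.Sι := by
  ext x
  constructor
  · rintro (rfl | rfl | rfl | rfl | rfl | rfl)
    · exact ⟨.a, rfl⟩
    · exact ⟨.b, rfl⟩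
    · exact ⟨.c, rfl⟩
    · exact ⟨.d, rfl⟩
    · exact ⟨.e, rfl⟩
    · exact ⟨.f, rfl⟩
  · rintro ⟨y, rfl⟩
    cases y
    · exact Or.inl rfl
    · exact Or.inr (Or.inl rfl)
    · exact Or.inr (Or.inr (Or.inl rfl))
    · exact Or.inr (Or.inr (Or.inr (Or.inl rfl)))
    · exact Or.inr (Or.inr (Or.inr (Or.inr (Or.inl rfl))))
    · exact Or.inr (Or.inr (Or.inr (Or.inr (Or.inr (rfl)))))

theorem finite_card_Hs : Finite ↥Hs ∧ Nat.card ↥Hs ≤ 251596800 := by
  obtain ⟨f0, c0⟩ := SuzP3x2160.card_eq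
  obtain ⟨f1, c1⟩ := SuzP2x280.card_le f0 _ (le_of_eq c0)
  obtain ⟨f2, c2⟩ := SuzP1x416.card_le f1 _ c1
  obtain ⟨h1, h2⟩ := Cfsg.Agent.Lib.Helper12.Ord.SuzP1.card_le f2
  rw [← S_eq] at h1 h2
  exact ⟨h1, h2.trans c2⟩

instance finite_Hs : Finite ↥Hs := finite_card_Hs.1

theorem card_Gc : Nat.card ↥Gc = 251596800 := by
  have h := Cfsg.Agent.S1059.result (F := K) (q := 4) (by decide)
  rw [h]
  norm_num

theorem simple_Gc : IsSimpleGroup ↥Gc :=
  (Cfsg.Agent.S1055.result (F := K) ⟨F4c.w, by decide, by decide⟩).1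

/-- the matrices acting as the identity on the points -/
def N1 : Subgroup ↥Gc where
  carrier := {M | Compat 1 (M : GL Idx K)}
  one_mem' := compat_one
  mul_mem' := by
    intro a b ha hb
    have := compat_mul 1 1 _ _ ha hb
    rwa [mul_one] at this
  inv_mem' := by
    intro a ha
    have := compat_inv 1 _ ha
    rwa [inv_one] at this

theorem mem_N1 (M : ↥Gc) : M ∈ N1 ↔ Compat 1 (M : GL Idx K) := Iff.rfl

instance normal_N1 : N1.Normal := by
  constructor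
  intro M hM g
  obtain ⟨h, _, hc⟩ := exists_compat g g.2
  have h1 := compat_mul _ _ _ _ (compat_mul _ _ _ _ hc hM) (compat_inv _ _ hc)
  rw [mul_one, mul_inv_cancel] at h1
  exact h1

/-- a root element -/
noncomputable def M0 : ↥Gc :=
  ⟨Cfsg.Agent.Lib.helper8.h8xU chevG2 Cfsg.Agent.Lib.helper8.h8base_G2 11 (1 : K),
    Cfsg.Agent.Lib.helper8.h8xU_mem_group chevG2 Cfsg.Agent.Lib.helper8.h8base_G2 11 (1 : K)⟩

theorem M0_val : ((M0 : GL Idx K) : Matrix Idx Idx K) = chevG2.xMat K (11 : Fin 12) 1 := by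
  show chevG2.x K 11 1 = _
  unfold ChevalleyDatum.x
  rw [dif_pos (by decide)]
  rfl

theorem witness : decN (ptAt 2) 13 = 0 ∧ rowDotN (EN 45) (ptAt 2) 13 ≠ 0 := by decide +kernel

theorem M0_not_mem : M0 ∉ N1 := by
  intro h
  obtain ⟨j, hj, e1, c, hc, e2⟩ := (mem_N1 M0).mp h 2 (by decide)
  rw [map_one] at e1
  have hj2 : 2 = j := pt_inj (by decide) hj e1
  subst hj2
  have e3 := congrFun e2 (idxOf 13)
  rw [M0_val, xMat_mulVec (11 : Fin 12) 1 (ptAt 2) (by decide : 13 < 14)] at e3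
  have e4 : (c • vecN (ptAt 2)) (idxOf 13) = c * dec (ptAt 2) 13 := by
    rw [Pi.smul_apply, smul_eq_mul, vecN_idxOf _ (by decide : 13 < 14)]
  rw [e4, dec_eq, witness.1] at e3
  have e5 : rowDot (EN 45) (ptAt 2) 13 = 0 := by
    rw [show (4 * (11 : Fin 12).val + nOfK 1) = 45 from rfl] at e3
    rw [e3]
    exact mul_zero c
  rw [← kOfN_rowDotN] at e5
  have h4 := rowDotN_lt (EN 45) (ptAt 2) 13
  have h5 := witness.2
  generalize rowDotN (EN 45) (ptAt 2) 13 = z at e5 h4 h5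
  interval_cases z
  · exact h5 rfl
  · exact absurd e5 (by decide)
  · exact absurd e5 (by decide)
  · exact absurd e5 (by decide)

theorem N1_eq_bot : N1 = ⊥ := by
  have := simple_Gc
  rcases Subgroup.Normal.eq_bot_or_eq_top normal_N1 with h | h
  · exact h
  · exfalso
    apply M0_not_mem
    rw [h]
    trivial

/-- the elements of the subgroup corresponding to a matrix -/
def Hs' : Subgroup (PresentedGroup R) where
  carrier := {h | h ∈ Hs ∧ ∃ M ∈ Gc, Compat h M}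
  one_mem' := ⟨Subgroup.one_mem _, 1, Subgroup.one_mem _, compat_one⟩
  mul_mem' := by
    rintro a b ⟨ha, M, hM, hc⟩ ⟨hb, M', hM', hc'⟩
    exact ⟨Subgroup.mul_mem _ ha hb, M * M', Subgroup.mul_mem _ hM hM', compat_mul _ _ _ _ hc hc'⟩
  inv_mem' := by
    rintro a ⟨ha, M, hM, hc⟩
    exact ⟨Subgroup.inv_mem _ ha, M⁻¹, Subgroup.inv_mem _ hM, compat_inv _ _ hc⟩

theorem Hs'_le : Hs' ≤ Hs := fun _ h => h.1

/-- the homomorphism to the Chevalley group -/
theorem exists_theta : ∃ Θ : ↥Hs' →* ↥Gc ⧸ (⊥ : Subgroup ↥Gc),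
    ∀ (h : ↥Hs') (M : ↥Gc), Compat (h : PresentedGroup R) (M : GL Idx K) → Θ h = QuotientGroup.mk M := by
  refine exists_hom_of_compat Hs' (⊥ : Subgroup ↥Gc) (fun h M => Compat h (M : GL Idx K)) ?_ ?_ ?_ ?_
  · intro g g' M M' h h'
    exact compat_mul _ _ _ _ h h'
  · intro g M h
    exact compat_inv _ _ h
  · intro M hM
    rw [← N1_eq_bot]
    exact hM
  · rintro h ⟨_, M, hM, hc⟩
    exact ⟨⟨M, hM⟩, hc⟩

theorem theta_surjective (Θ : ↥Hs' →* ↥Gc ⧸ (⊥ : Subgroup ↥Gc))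
    (hΘ : ∀ (h : ↥Hs') (M : ↥Gc), Compat (h : PresentedGroup R) (M : GL Idx K) →
      Θ h = QuotientGroup.mk M) : Function.Surjective Θ := by
  intro q
  obtain ⟨M, rfl⟩ := QuotientGroup.mk_surjective q
  obtain ⟨h, hh, hc⟩ := exists_compat M M.2
  exact ⟨⟨h, hh, M, M.2, hc⟩, hΘ _ _ hc⟩

/-- the subgroup is isomorphic to the Chevalley group -/
theorem nonempty_iso : Nonempty (↥Hs ≃* ↥Gc) := by
  obtain ⟨Θ, hΘ⟩ := exists_theta
  have hsurj := theta_surjective Θ hΘ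
  have hcard : Nat.card (↥Gc ⧸ (⊥ : Subgroup ↥Gc)) = 251596800 := by
    rw [Nat.card_congr (QuotientGroup.quotientBot (G := ↥Gc)).toEquiv, card_Gc]
  have hle : Nat.card ↥Hs' ≤ Nat.card ↥Hs := Subgroup.card_le_of_le Hs'_le
  have : Finite ↥Hs' := Finite.of_injective (Subgroup.inclusion Hs'_le) (Subgroup.inclusion_injective _)
  have hbij : Function.Bijective Θ :=
    hsurj.bijective_of_nat_card_le (by rw [hcard]; exact hle.trans finite_card_Hs.2)
  have hc' : Nat.card ↥Hs' = 251596800 := by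
    rw [Nat.card_congr (Equiv.ofBijective Θ hbij), hcard]
  have heq : Hs' = Hs :=
    Subgroup.eq_of_le_of_card_ge Hs'_le (by rw [hc']; exact finite_card_Hs.2)
  have e1 : ↥Hs' ≃* ↥Gc := (MulEquiv.ofBijective Θ hbij).trans QuotientGroup.quotientBot
  exact ⟨(MulEquiv.subgroupCongr heq.symm).trans e1⟩

end Cfsg.Agent.Lib.Helper12.G24
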