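import Mathlib
import Cfsg.Prelude.Def_ChevG2
import Cfsg.Agent.Lib.Lead.F4c
import Cfsg.Agent.Lib.Helper12.TC.Core

/-!
The Chevalley group of type `G2` over the field with four elements in coordinates: vectors of the Lie
algebra as numbers (two bits for each of the fourteen coordinates), the matrices of the root elements as
tables (helper12).
-/

set_option autoImplicit false

namespace Cfsg.Agent.Lib.Helper12.G24

open Matrix Cfsg.Lie Cfsg.Agent.Lib.Lead.F4

/-- the field with four elements -/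
abbrev K : Type := F4c

/-- the index set of the coordinates -/
abbrev Idx : Type := chevG2.Idx

/-- the element of the field of a number -/
def kOfN : ℕ → K
  | 0 => F4c.z
  | 1 => F4c.o
  | 2 => F4c.w
  | _ => F4c.v

/-- the number of an element of the field -/
def nOfK : K → ℕ
  | F4c.z => 0
  | F4c.o => 1
  | F4c.w => 2
  | F4c.v => 3

theorem kOfN_nOfK (x : K) : kOfN (nOfK x) = x := by cases x <;> rfl

/-- the coordinate `k` of the vector of the number `n` -/
def dec (n k : ℕ) : K := kOfN (Nat.land (Nat.shiftRight n (Nat.mul 2 k)) 3)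

/-- the position of an index -/
def pos : Idx → ℕ
  | Sum.inl i => i.val
  | Sum.inr s => 2 + s.val

/-- the index of a position -/
def idxOf (k : ℕ) : Idx :=
  if h : k < 2 then Sum.inl ⟨k, h⟩ else if h2 : k - 2 < 12 then Sum.inr ⟨k - 2, h2⟩ else Sum.inl ⟨0, by decide⟩

theorem pos_lt (x : Idx) : pos x < 14 := by
  rcases x with i | s
  · have := i.isLt
    show i.val < 14
    have h2 : chevG2.rank = 2 := rfl
    omega
  · have := s.isLt
    show 2 + s.val < 14
    have h2 : chevG2.nroots = 12 := rfl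
    omega

theorem idxOf_pos (x : Idx) : idxOf (pos x) = x := by
  rcases x with i | s
  · have hi : i.val < 2 := i.isLt
    unfold idxOf pos
    rw [dif_pos hi]
  · have hs : s.val < 12 := s.isLt
    unfold idxOf pos
    have h1 : ¬ (2 + s.val < 2) := by omega
    have h2 : 2 + s.val - 2 < 12 := by omega
    rw [dif_neg h1, dif_pos h2]
    congr 1
    apply Fin.ext
    show 2 + s.val - 2 = s.val
    omega

theorem pos_idxOf {k : ℕ} (hk : k < 14) : pos (idxOf k) = k := by
  unfold idxOf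
  by_cases h : k < 2
  · rw [dif_pos h]; rfl
  · have h2 : k - 2 < 12 := by omega
    rw [dif_neg h, dif_pos h2]
    show 2 + (k - 2) = k
    omega

/-- the vector of a number -/
def vecN (n : ℕ) : Idx → K := fun x => dec n (pos x)

theorem vecN_idxOf (n : ℕ) {k : ℕ} (hk : k < 14) : vecN n (idxOf k) = dec n k := by
  unfold vecN
  rw [pos_idxOf hk]

/-- a sum of fourteen terms -/
def sum14 (f : ℕ → K) : K :=
  f 0 + (f 1 + (f 2 + (f 3 + (f 4 + (f 5 + (f 6 + (f 7 + (f 8 + (f 9 + (f 10 + (f 11 + (f 12 + f 13))))))))))))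

/-- a conjunction of fourteen terms -/
def all14 (p : ℕ → Bool) : Bool :=
  p 0 && (p 1 && (p 2 && (p 3 && (p 4 && (p 5 && (p 6 && (p 7 && (p 8 && (p 9 && (p 10 && (p 11 && (p 12 && p 13))))))))))))

theorem all14_spec {p : ℕ → Bool} (h : all14 p = true) {k : ℕ} (hk : k < 14) : p k = true := by
  unfold all14 at h
  simp only [Bool.and_eq_true] at h
  obtain ⟨h0, h1, h2, h3, h4, h5, h6, h7, h8, h9, h10, h11, h12, h13⟩ := h
  interval_cases k <;> assumption

theorem mulVec_aux (M : Matrix (Fin 2 ⊕ Fin 12) (Fin 2 ⊕ Fin 12) K) (u : Fin 2 ⊕ Fin 12 → K)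
    (x : Fin 2 ⊕ Fin 12) :
    (M *ᵥ u) x = M x (Sum.inl 0) * u (Sum.inl 0) + (M x (Sum.inl 1) * u (Sum.inl 1) +
      (M x (Sum.inr 0) * u (Sum.inr 0) + (M x (Sum.inr 1) * u (Sum.inr 1) +
      (M x (Sum.inr 2) * u (Sum.inr 2) + (M x (Sum.inr 3) * u (Sum.inr 3) +
      (M x (Sum.inr 4) * u (Sum.inr 4) + (M x (Sum.inr 5) * u (Sum.inr 5) +
      (M x (Sum.inr 6) * u (Sum.inr 6) + (M x (Sum.inr 7) * u (Sum.inr 7) +
      (M x (Sum.inr 8) * u (Sum.inr 8) + (M x (Sum.inr 9) * u (Sum.inr 9) +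
      (M x (Sum.inr 10) * u (Sum.inr 10) + M x (Sum.inr 11) * u (Sum.inr 11))))))))))))) := by
  simp only [Matrix.mulVec, dotProduct, Fintype.sum_sum_type, Fin.sum_univ_succ,
    Fin.sum_univ_zero, add_zero, add_assoc]
  rfl

/-- the product of a matrix and a vector in coordinates -/
theorem mulVec_apply14 (M : Matrix Idx Idx K) (u : Idx → K) (x : Idx) :
    (M *ᵥ u) x = sum14 (fun k => M x (idxOf k) * u (idxOf k)) :=
  mulVec_aux M u x

/-- the coordinate `k` of the vector of the number `n`, as a number -/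
def decN (n k : ℕ) : ℕ := Nat.land (Nat.shiftRight n (Nat.mul 2 k)) 3

theorem dec_eq (n k : ℕ) : dec n k = kOfN (decN n k) := rfl

/-- the entry of the table of a matrix, as a number -/
def entN (E row col : ℕ) : ℕ :=
  Nat.land (Nat.shiftRight E (Nat.mul 2 (Nat.add (Nat.mul 14 row) col))) 3

/-- the entry of the table of a matrix -/
def ent (E row col : ℕ) : K := kOfN (entN E row col)

/-- the coordinate `row` of the product of the matrix of the table `E` and the vector of `n` -/
def rowDot (E n row : ℕ) : K := sum14 (fun col => ent E row col * dec n col)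

/-- the product of the field on numbers -/
def mulN (a b : ℕ) : ℕ := Nat.land (Nat.shiftRight 2625168384 (Nat.mul 2 (Nat.add (Nat.mul 4 a) b))) 3

theorem land3_lt (x : ℕ) : Nat.land x 3 < 4 := by
  have : x &&& 3 ≤ 3 := Nat.and_le_right
  exact Nat.lt_succ_of_le this

theorem decN_lt (n k : ℕ) : decN n k < 4 := land3_lt _

theorem entN_lt (E row col : ℕ) : entN E row col < 4 := land3_lt _

theorem mulN_lt (a b : ℕ) : mulN a b < 4 := land3_lt _

theorem kOfN_mulN {a b : ℕ} (ha : a < 4) (hb : b < 4) : kOfN (mulN a b) = kOfN a * kOfN b := by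
  interval_cases a <;> interval_cases b <;> rfl

theorem kOfN_xor {a b : ℕ} (ha : a < 4) (hb : b < 4) :
    kOfN (Nat.xor a b) = kOfN a + kOfN b ∧ Nat.xor a b < 4 := by
  interval_cases a <;> interval_cases b <;> exact ⟨rfl, by decide⟩

/-- a sum of fourteen terms on numbers -/
def xor14 (f : ℕ → ℕ) : ℕ :=
  Nat.xor (f 0) (Nat.xor (f 1) (Nat.xor (f 2) (Nat.xor (f 3) (Nat.xor (f 4) (Nat.xor (f 5)
    (Nat.xor (f 6) (Nat.xor (f 7) (Nat.xor (f 8) (Nat.xor (f 9) (Nat.xor (f 10) (Nat.xor (f 11)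
      (Nat.xor (f 12) (f 13)))))))))))))

theorem kOfN_xor14 (f : ℕ → ℕ) (hf : ∀ k, f k < 4) :
    kOfN (xor14 f) = sum14 (fun k => kOfN (f k)) ∧ xor14 f < 4 := by
  unfold xor14 sum14
  have h12 := kOfN_xor (hf 12) (hf 13)
  have h11 := kOfN_xor (hf 11) h12.2
  have h10 := kOfN_xor (hf 10) h11.2
  have h9 := kOfN_xor (hf 9) h10.2
  have h8 := kOfN_xor (hf 8) h9.2
  have h7 := kOfN_xor (hf 7) h8.2
  have h6 := kOfN_xor (hf 6) h7.2
  have h5 := kOfN_xor (hf 5) h6.2
  have h4 := kOfN_xor (hf 4) h5.2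
  have h3 := kOfN_xor (hf 3) h4.2
  have h2 := kOfN_xor (hf 2) h3.2
  have h1 := kOfN_xor (hf 1) h2.2
  have h0 := kOfN_xor (hf 0) h1.2
  refine ⟨?_, h0.2⟩
  rw [h0.1, h1.1, h2.1, h3.1, h4.1, h5.1, h6.1, h7.1, h8.1, h9.1, h10.1, h11.1, h12.1]

/-- the coordinate `row` of the product of the matrix of the table `E` and the vector of `n`, as a number -/
def rowDotN (E n row : ℕ) : ℕ := xor14 (fun col => mulN (entN E row col) (decN n col))

theorem kOfN_rowDotN (E n row : ℕ) : kOfN (rowDotN E n row) = rowDot E n row := by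
  unfold rowDotN rowDot
  rw [(kOfN_xor14 _ (fun k => mulN_lt _ _)).1]
  congr 1
  funext col
  rw [kOfN_mulN (entN_lt _ _ _) (decN_lt _ _)]
  rfl

theorem rowDotN_lt (E n row : ℕ) : rowDotN E n row < 4 :=
  (kOfN_xor14 _ (fun _ => mulN_lt _ _)).2

end Cfsg.Agent.Lib.Helper12.G24
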