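import Cfsg.Agent.Lib.Helper12.G24.Vec
import Cfsg.Agent.Lib.Helper12.G24.Data

/-!
The matrices of the root elements of the Chevalley group of type `G2` over the field with four elements
are the matrices of the tables (helper12).
-/

set_option autoImplicit false
set_option maxRecDepth 100000

namespace Cfsg.Agent.Lib.Helper12.G24

open Matrix Cfsg.Lie Cfsg.Agent.Lib.Lead.F4

theorem xMat_tab : ∀ r : Fin 12, ∀ t : K, ∀ i j : Fin 14,
    chevG2.xMat K r t (idxOf i.val) (idxOf j.val) = ent (EN (4 * r.val + nOfK t)) i.val j.val := by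
  decide +kernel

/-- the product of the matrix of a root element and the vector of a number in coordinates -/
theorem xMat_mulVec (r : Fin 12) (t : K) (n : ℕ) {row : ℕ} (hrow : row < 14) :
    (chevG2.xMat K r t *ᵥ vecN n) (idxOf row) = rowDot (EN (4 * r.val + nOfK t)) n row := by
  rw [mulVec_apply14]
  unfold rowDot sum14
  have e : ∀ k, k < 14 → chevG2.xMat K r t (idxOf row) (idxOf k) * vecN n (idxOf k) =
      ent (EN (4 * r.val + nOfK t)) row k * dec n k := by
    intro k hk
    rw [vecN_idxOf n hk]
    exact congrArg (· * dec n k) (xMat_tab r t ⟨row, hrow⟩ ⟨k, hk⟩)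
  simp only [e 0 (by decide), e 1 (by decide), e 2 (by decide), e 3 (by decide), e 4 (by decide),
    e 5 (by decide), e 6 (by decide), e 7 (by decide), e 8 (by decide), e 9 (by decide),
    e 10 (by decide), e 11 (by decide), e 12 (by decide), e 13 (by decide)]

end Cfsg.Agent.Lib.Helper12.G24
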